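import Mathlib.AlgebraicGeometry.Pullbacks
import Mathlib.AlgebraicGeometry.PullbackCarrier
import Mathlib.AlgebraicGeometry.Gluing
import Mathlib.AlgebraicGeometry.AffineScheme

/-!
The functor of clopen subsets of the base change of a fixed `g : S' ⟶ S`: representing data,
and the principle that representability can be checked on affine test schemes.
-/

set_option autoImplicit false

universe u

open CategoryTheory AlgebraicGeometry Limits

namespace Groth.Agent.Hensel.IdemScheme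

variable {S S' X Y T T' : Scheme.{u}} (g : S' ⟶ S)

/-- The map on base changes of `g` induced by a morphism over `S`. -/
noncomputable def bc {t : T ⟶ S} {p : X ⟶ S} (h : T ⟶ X) (e : h ≫ p = t) :
    pullback t g ⟶ pullback p g :=
  pullback.lift (pullback.fst t g ≫ h) (pullback.snd t g)
    (by rw [Category.assoc, e, pullback.condition])

@[reassoc (attr := simp)]
theorem bc_fst {t : T ⟶ S} {p : X ⟶ S} (h : T ⟶ X) (e : h ≫ p = t) :
    bc g h e ≫ pullback.fst p g = pullback.fst t g ≫ h := pullback.lift_fst _ _ _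

@[reassoc (attr := simp)]
theorem bc_snd {t : T ⟶ S} {p : X ⟶ S} (h : T ⟶ X) (e : h ≫ p = t) :
    bc g h e ≫ pullback.snd p g = pullback.snd t g := pullback.lift_snd _ _ _

theorem bc_comp {t' : T' ⟶ S} {t : T ⟶ S} {p : X ⟶ S} (a : T' ⟶ T) (ea : a ≫ t = t')
    (h : T ⟶ X) (e : h ≫ p = t) (e' : (a ≫ h) ≫ p = t') :
    bc g (a ≫ h) e' = bc g a ea ≫ bc g h e := by
  apply pullback.hom_ext <;> simp

theorem bc_id {t : T ⟶ S} (e : 𝟙 T ≫ t = t) : bc g (𝟙 T) e = 𝟙 _ := by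
  apply pullback.hom_ext <;> simp

theorem bc_congr {t : T ⟶ S} {p : X ⟶ S} {h h' : T ⟶ X} (hh : h = h') (e : h ≫ p = t)
    (e' : h' ≫ p = t) : bc g h e = bc g h' e' := by
  subst hh
  rfl

theorem bc_preimage_comp {t' : T' ⟶ S} {t : T ⟶ S} {p : X ⟶ S} (a : T' ⟶ T) (ea : a ≫ t = t')
    (h : T ⟶ X) (e : h ≫ p = t) (e' : (a ≫ h) ≫ p = t') (V : Set ↥(pullback p g)) :
    (bc g (a ≫ h) e').base ⁻¹' V = (bc g a ea).base ⁻¹' ((bc g h e).base ⁻¹' V) := by
  rw [bc_comp g a ea h e e']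
  rfl

theorem isPullback_bc {t : T ⟶ S} {p : X ⟶ S} (h : T ⟶ X) (e : h ≫ p = t) :
    IsPullback (bc g h e) (pullback.fst t g) (pullback.fst p g) h := by
  refine IsPullback.of_right ?_ (bc_fst g h e) (IsPullback.of_hasPullback p g).flip
  rw [bc_snd, e]
  exact (IsPullback.of_hasPullback t g).flip

theorem exists_bc_eq {t : T ⟶ S} {p : X ⟶ S} (h : T ⟶ X) (e : h ≫ p = t)
    (z : ↥(pullback p g)) (x : T) (hx : (pullback.fst p g).base z = h.base x) :
    ∃ w : ↥(pullback t g), (bc g h e).base w = z := by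
  obtain ⟨w, hw, -⟩ := Scheme.exists_preimage_of_isPullback (isPullback_bc g h e) z x hx
  exact ⟨w, hw⟩

theorem isOpenImmersion_bc {t : T ⟶ S} {p : X ⟶ S} (h : T ⟶ X) (e : h ≫ p = t)
    [IsOpenImmersion h] : IsOpenImmersion (bc g h e) :=
  MorphismProperty.of_isPullback (isPullback_bc g h e).flip inferInstance

/-- `(p, V)` represents, at `t`, the clopen subsets of the base change of `g`. -/
def Rep (p : X ⟶ S) (V : Set ↥(pullback p g)) (t : T ⟶ S) : Prop :=
  ∀ W : Set ↥(pullback t g), IsClopen W →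
    ∃! h : T ⟶ X, ∃ e : h ≫ p = t, (bc g h e).base ⁻¹' V = W

/-- The clopen classified by a morphism. -/
theorem Rep.ext {p : X ⟶ S} {V : Set ↥(pullback p g)} (hV : IsClopen V) {t : T ⟶ S}
    (H : Rep g p V t) {h h' : T ⟶ X} (e : h ≫ p = t) (e' : h' ≫ p = t)
    (hh : (bc g h e).base ⁻¹' V = (bc g h' e').base ⁻¹' V) : h = h' :=
  (H _ (hV.preimage (bc g h' e').continuous)).unique ⟨e, hh⟩ ⟨e', rfl⟩

theorem rep_of_iso {p : X ⟶ S} {V : Set ↥(pullback p g)} {t : T ⟶ S} {t' : T' ⟶ S} (a : T' ≅ T)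
    (ea : a.hom ≫ t = t') (H : Rep g p V t') : Rep g p V t := by
  intro W hW
  have ea' : a.inv ≫ t' = t := by rw [← ea, a.inv_hom_id_assoc]
  obtain ⟨h', ⟨e', he'⟩, huniq⟩ := H ((bc g a.hom ea).base ⁻¹' W) (hW.preimage (bc g _ ea).continuous)
  have hinv : bc g a.inv ea' ≫ bc g a.hom ea = 𝟙 _ := by
    apply pullback.hom_ext <;> simp
  refine ⟨a.inv ≫ h', ⟨by rw [Category.assoc, e', ea'], ?_⟩, ?_⟩
  · rw [bc_preimage_comp g a.inv ea' h' e', he', ← Set.preimage_comp,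
      ← TopCat.coe_comp, ← Scheme.Hom.comp_base, hinv]
    rfl
  · rintro h ⟨e, he⟩
    have := huniq (a.hom ≫ h) ⟨by rw [Category.assoc, e, ea], by
      rw [bc_preimage_comp g a.hom ea h e, he]⟩
    rw [← this, a.inv_hom_id_assoc]

/-- Representability on affine test schemes with image in a member of `𝒰` propagates to all
test schemes with image in the union of `𝒰`. -/
theorem rep_of_affine {p : X ⟶ S} {V : Set ↥(pullback p g)} (hV : IsClopen V) (𝒰 : Set S.Opens)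
    (hA : ∀ (T : Scheme.{u}) [IsAffine T] (t : T ⟶ S), ∀ U ∈ 𝒰, Set.range t.base ⊆ (U : Set S) →
      Rep g p V t)
    {T : Scheme.{u}} (t : T ⟶ S) (ht : ∀ x, ∃ U ∈ 𝒰, t.base x ∈ U) : Rep g p V t := by
  classical
  have huniq : ∀ {T : Scheme.{u}} (t : T ⟶ S), (∀ x, ∃ U ∈ 𝒰, t.base x ∈ U) →
      ∀ (h h' : T ⟶ X) (e : h ≫ p = t) (e' : h' ≫ p = t),
        (bc g h e).base ⁻¹' V = (bc g h' e').base ⁻¹' V → h = h' := by
    intro T t ht h h' e e' hh
    choose U hU hxU using ht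
    have hbasis : ∀ x : T, ∃ W : T.Opens, IsAffineOpen W ∧ x ∈ W ∧ W ≤ t ⁻¹ᵁ (U x) := fun x => by
      obtain ⟨W, hW, hxW, hle⟩ := TopologicalSpace.Opens.isBasis_iff_nbhd.1 T.isBasis_affineOpens
        (U := t ⁻¹ᵁ (U x)) (hxU x)
      exact ⟨W, hW, hxW, hle⟩
    choose W hW hxW hle using hbasis
    refine (Scheme.openCoverOfIsOpenCover T W (.mk (eq_top_iff.2 fun x _ =>
      TopologicalSpace.Opens.mem_iSup.2 ⟨x, hxW x⟩))).hom_ext _ _ fun x => ?_
    haveI : IsAffine (W x).toScheme := hW x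
    show (W x).ι ≫ h = (W x).ι ≫ h'
    refine Rep.ext g hV (hA _ ((W x).ι ≫ t) (U x) (hU x) ?_)
      (by rw [Category.assoc, e]) (by rw [Category.assoc, e']) ?_
    · rintro _ ⟨y, rfl⟩
      exact hle x y.2
    · rw [bc_preimage_comp g (W x).ι rfl h e, bc_preimage_comp g (W x).ι rfl h' e', hh]
  choose U hU hxU using ht
  have hbasis : ∀ x : T, ∃ W : T.Opens, IsAffineOpen W ∧ x ∈ W ∧ W ≤ t ⁻¹ᵁ (U x) := fun x => by
    obtain ⟨W, hW, hxW, hle⟩ := TopologicalSpace.Opens.isBasis_iff_nbhd.1 T.isBasis_affineOpens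
      (U := t ⁻¹ᵁ (U x)) (hxU x)
    exact ⟨W, hW, hxW, hle⟩
  choose W hW hxW hle using hbasis
  let 𝒲 := Scheme.openCoverOfIsOpenCover T W (.mk (eq_top_iff.2 fun x _ =>
      TopologicalSpace.Opens.mem_iSup.2 ⟨x, hxW x⟩))
  intro Wc hWc
  have hloc : ∀ x : T, ∃! h : (W x).toScheme ⟶ X, ∃ e : h ≫ p = (W x).ι ≫ t,
      (bc g h e).base ⁻¹' V = (bc g (W x).ι rfl).base ⁻¹' Wc := fun x => by
    haveI : IsAffine (W x).toScheme := hW x
    refine hA _ ((W x).ι ≫ t) (U x) (hU x) ?_ _ (hWc.preimage (bc g (W x).ι rfl).continuous)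
    rintro _ ⟨y, rfl⟩
    exact hle x y.2
  choose hx hx' hxV using fun x => (hloc x).exists
  have hglue : ∀ x y, pullback.fst (𝒲.f x) (𝒲.f y) ≫ hx x = pullback.snd (𝒲.f x) (𝒲.f y) ≫ hx y := by
    intro x y
    show pullback.fst (W x).ι (W y).ι ≫ hx x = pullback.snd (W x).ι (W y).ι ≫ hx y
    let k := pullback.fst (W x).ι (W y).ι ≫ (W x).ι ≫ t
    have e₁ : (pullback.fst (W x).ι (W y).ι ≫ hx x) ≫ p = k := by rw [Category.assoc, hx' x]
    have e₂ : (pullback.snd (W x).ι (W y).ι ≫ hx y) ≫ p = k := by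
      rw [Category.assoc, hx' y, ← pullback.condition_assoc]
    refine huniq k (fun z => ⟨U x, hU x, ?_⟩) _ _ e₁ e₂ ?_
    · exact hle x ((pullback.fst (W x).ι (W y).ι).base z).2
    · have ek : pullback.snd (W x).ι (W y).ι ≫ (W y).ι ≫ t = k := by
        rw [← pullback.condition_assoc]
      rw [bc_preimage_comp g _ rfl (hx x) (hx' x), hxV x,
        bc_preimage_comp g _ ek (hx y) (hx' y), hxV y,
        ← bc_preimage_comp g (pullback.fst (W x).ι (W y).ι) (t' := k) (t := (W x).ι ≫ t) rfl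
          (W x).ι (p := t) rfl (by rw [Category.assoc]),
        ← bc_preimage_comp g (pullback.snd (W x).ι (W y).ι) (t' := k) (t := (W y).ι ≫ t) ek
          (W y).ι (p := t) rfl (by rw [Category.assoc, ek])]
      rw [bc_congr g pullback.condition]
  let h := 𝒲.glueMorphisms hx hglue
  have hh : ∀ x, (W x).ι ≫ h = hx x := fun x => 𝒲.ι_glueMorphisms hx hglue x
  have e : h ≫ p = t := 𝒲.hom_ext _ _ fun x => by
    show (W x).ι ≫ h ≫ p = (W x).ι ≫ t
    rw [← Category.assoc, hh, hx' x]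
  have he : (bc g h e).base ⁻¹' V = Wc := by
    ext z
    obtain ⟨x, hzx⟩ : ∃ x, x = (pullback.fst t g).base z := ⟨_, rfl⟩
    obtain ⟨w, rfl⟩ := exists_bc_eq g (W x).ι rfl z ⟨x, hxW x⟩ hzx.symm
    rw [Set.mem_preimage, ← Scheme.Hom.comp_apply,
      ← bc_comp g (W x).ι rfl h e (by rw [Category.assoc, e]), bc_congr g (hh x) _ (hx' x)]
    exact Set.ext_iff.1 (hxV x) w
  exact ⟨h, ⟨e, he⟩, fun h' ⟨e', he'⟩ => huniq t (fun x => ⟨U x, hU x, hxU x⟩) h' h e' e
    (he'.trans he.symm)⟩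

end Groth.Agent.Hensel.IdemScheme
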