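import Groth.Agent.Hensel.IdemScheme.Local
import Mathlib.AlgebraicGeometry.RelativeGluing
import Mathlib.AlgebraicGeometry.Morphisms.Separated
import Mathlib.AlgebraicGeometry.Morphisms.Affine

/-!
Gluing the local schemes of idempotents.
-/

set_option autoImplicit false

universe u

open CategoryTheory AlgebraicGeometry Limits

namespace Groth.Agent.Hensel.IdemScheme

variable {S S' : Scheme.{u}} (g : S' ⟶ S)

/-- The glued scheme of gluing data over all affine opens, with its charts. -/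
theorem glued_props (d : Scheme.Cover.RelativeGluingData S.directedAffineCover) :
    ∃ (X : Scheme.{u}) (p : X ⟶ S) (ι : ∀ U : S.affineOpens, d.functor.obj U ⟶ X),
      (∀ U, IsOpenImmersion (ι U)) ∧ (∀ U, ι U ≫ p = d.natTrans.app U ≫ U.1.ι) ∧
      (∀ (U U' : S.affineOpens) (h : U ≤ U'),
        d.functor.map (homOfLE h : (U : S.directedAffineCover.I₀) ⟶ U') ≫ ι U' = ι U) ∧
      (∀ x : X, ∃ U y, (ι U).base y = x) ∧
      (∀ U : S.affineOpens, ∀ x : X, p.base x ∈ U.1 → ∃ y, (ι U).base y = x) := by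
  haveI : Small.{u} S.directedAffineCover.I₀ := inferInstanceAs (Small.{u} S.affineOpens)
  haveI : Quiver.IsThin S.directedAffineCover.I₀ := inferInstanceAs (Quiver.IsThin S.affineOpens)
  refine ⟨d.glued, d.toBase, fun U => colimit.ι d.functor U, fun U => d.cover.map_prop U,
    fun U => d.ι_toBase U, fun U U' h => colimit.w d.functor _,
    fun x => ⟨_, d.cover.covers x⟩, fun U x hx => ?_⟩
  have h : x ∈ d.toBase ⁻¹' (Set.range (S.directedAffineCover.f U)) := ⟨⟨_, hx⟩, rfl⟩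
  rw [d.preimage_toBase_eq_range_ι U] at h
  exact h

/-- The scheme of clopen subsets of a finite locally free morphism: étale and affine over the
base, with a universal clopen. -/
theorem exists_rep [IsFinite g] [Flat g] [LocallyOfFinitePresentation g] :
    ∃ (X : Scheme.{u}) (p : X ⟶ S) (V : Set ↥(pullback p g)), IsClopen V ∧ Etale p ∧ IsAffineHom p ∧
      ∀ (T : Scheme.{u}) (t : T ⟶ S), Rep g p V t := by
  classical
  choose Xc pc Vc hVc hXa hpe hpr hrep using
    fun U : S.affineOpens => exists_local_rep g U.1 U.2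
  -- transition maps
  have hle : ∀ {U U' : S.affineOpens}, U ≤ U' → Set.range (pc U).base ⊆ (U'.1 : Set S) :=
    fun {U U'} h => (hpr U).trans h
  have htr : ∀ {U U' : S.affineOpens}, U ≤ U' → ∃! h : Xc U ⟶ Xc U', ∃ e : h ≫ pc U' = pc U,
      (bc g h e).base ⁻¹' (Vc U') = Vc U :=
    fun {U U'} h => hrep U' (Xc U) (pc U) (hle h) (Vc U) (hVc U)
  choose τ hτe hτV using fun (U U' : S.affineOpens) (h : U ≤ U') => (htr h).exists
  have hτuniq : ∀ {U U' : S.affineOpens} (h : U ≤ U') (k : Xc U ⟶ Xc U') (e : k ≫ pc U' = pc U),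
      (bc g k e).base ⁻¹' (Vc U') = Vc U → k = τ U U' h :=
    fun {U U'} h k e hk => (htr h).unique ⟨e, hk⟩ ⟨hτe U U' h, hτV U U' h⟩
  let q : ∀ U : S.affineOpens, Xc U ⟶ U.1.toScheme := fun U =>
    IsOpenImmersion.lift U.1.ι (pc U) (by rw [Scheme.Opens.range_ι]; exact hpr U)
  have hq : ∀ U, q U ≫ U.1.ι = pc U := fun U => IsOpenImmersion.lift_fac _ _ _
  let F : S.directedAffineCover.I₀ ⥤ Scheme.{u} :=
    { obj := fun U => Xc U
      map := fun {U U'} h => τ U U' h.le
      map_id := fun U => (hτuniq (le_refl U) (𝟙 _) (Category.id_comp _) (by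
        rw [bc_id]; rfl)).symm
      map_comp := fun {U U' U''} h h' => (hτuniq _ (τ U U' h.le ≫ τ U' U'' h'.le)
        (by rw [Category.assoc, hτe, hτe]) (by
          rw [bc_preimage_comp g (τ U U' h.le) (hτe _ _ _) (τ U' U'' h'.le) (hτe _ _ _), hτV,
            hτV])).symm }
  let η : F ⟶ S.directedAffineCover.functorOfLocallyDirected :=
    { app := fun U => q U
      naturality := fun U U' h => by
        show τ U U' h.le ≫ q U' = q U ≫ S.directedAffineCover.trans h
        rw [← cancel_mono U'.1.ι, Category.assoc, hq, hτe]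
        refine Eq.trans ?_ (Category.assoc _ _ _).symm
        exact ((congrArg (q U ≫ ·) (Scheme.Cover.trans_map S.directedAffineCover h)).trans (hq U)).symm }
  have hEq : η.Equifibered := by
    suffices ∀ (U U' : S.affineOpens) (h : (U : S.directedAffineCover.I₀) ⟶ U'),
        IsPullback (τ U U' h.le) (q U) (q U') (S.directedAffineCover.trans h) from
      fun {U U'} h => this U U' h
    intro U U' h
    show IsPullback (τ U U' h.le) (q U) (q U') (S.directedAffineCover.trans h)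
    refine ⟨⟨η.naturality h⟩, ⟨PullbackCone.isLimitAux' _ fun s => Classical.indefiniteDescription _ ?_⟩⟩
    have e' : s.fst ≫ pc U' = s.snd ≫ U.1.ι := by
      rw [← hq U', ← Category.assoc, s.condition, Category.assoc]
      exact congrArg (s.snd ≫ ·) (Scheme.Cover.trans_map S.directedAffineCover h)
    have hr : Set.range (s.snd ≫ U.1.ι).base ⊆ (U.1 : Set S) := by
      rintro _ ⟨x, rfl⟩
      exact (s.snd.base x).2
    have hr' : Set.range (s.snd ≫ U.1.ι).base ⊆ (U'.1 : Set S) := hr.trans h.le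
    obtain ⟨l, ⟨el, hl⟩, hlu⟩ := hrep U s.pt (s.snd ≫ U.1.ι) hr
      ((bc g s.fst e').base ⁻¹' (Vc U')) ((hVc U').preimage (bc g s.fst e').continuous)
    have eτ : (l ≫ τ U U' h.le) ≫ pc U' = s.snd ≫ U.1.ι := by rw [Category.assoc, hτe, el]
    have h1 : l ≫ τ U U' h.le = s.fst :=
      Rep.ext g (hVc U') (hrep U' s.pt _ hr') eτ e'
        (by rw [bc_preimage_comp g l el (τ U U' h.le) (hτe _ _ _), hτV, hl])
    refine ⟨l, h1, ?_, fun {m} hm₁ hm₂ => hlu m ⟨?_, ?_⟩⟩
    · rw [← cancel_mono U.1.ι, Category.assoc]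
      show l ≫ q U ≫ U.1.ι = _
      rw [hq, el]
    · rw [← hm₂, Category.assoc]
      exact congrArg (m ≫ ·) (hq U).symm
    · have em : m ≫ pc U = s.snd ≫ U.1.ι := by
        rw [← hm₂, Category.assoc]
        exact congrArg (m ≫ ·) (hq U).symm
      rw [← bc_congr g (show m ≫ τ U U' h.le = s.fst from hm₁)
          ((Category.assoc _ _ _).trans ((congrArg (m ≫ ·) (hτe U U' h.le)).trans em)) e',
        bc_preimage_comp g m em (τ U U' h.le) (hτe _ _ _)]
      exact congrArg ((bc g m em).base ⁻¹' ·) (hτV U U' h.le).symm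
  obtain ⟨X, p, ι, hιo, hιp', hιw, hcov, hrange'⟩ := glued_props ⟨F, η, hEq⟩
  haveI : ∀ U, IsOpenImmersion (ι U) := hιo
  have hιp : ∀ U, ι U ≫ p = pc U := fun U => (hιp' U).trans (hq U)
  have hτι : ∀ {U U' : S.affineOpens} (h : U ≤ U'), τ U U' h ≫ ι U' = ι U := fun {U U'} h =>
    hιw U U' h
  have hrange : ∀ U : S.affineOpens, ∀ x : X, p.base x ∈ U.1 → ∃ y, (ι U).base y = x :=
    fun U x hx => hrange' U x hx
  let V : Set ↥(pullback p g) :=
    {z | ∀ (U : S.affineOpens) (y : ↥(pullback (pc U) g)),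
      (bc g (ι U) (hιp U)).base y = z → y ∈ Vc U}
  haveI hbcι : ∀ U, IsOpenImmersion (bc g (ι U) (hιp U)) := fun U => isOpenImmersion_bc g _ _
  have hVU : ∀ U, (bc g (ι U) (hιp U)).base ⁻¹' V = Vc U := by
    intro U
    ext y
    refine ⟨fun h => h U y rfl, fun hy U' y' hy' => ?_⟩
    -- a common refinement
    let s := (pullback.fst p g ≫ p).base ((bc g (ι U) (hιp U)).base y)
    have hs : s = (pc U).base ((pullback.fst (pc U) g).base y) := by
      show ((bc g (ι U) (hιp U) ≫ pullback.fst p g ≫ p)).base y = _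
      rw [bc_fst_assoc, hιp]
      rfl
    have hs' : s = (pc U').base ((pullback.fst (pc U') g).base y') := by
      show (pullback.fst p g ≫ p).base ((bc g (ι U) (hιp U)).base y) = _
      rw [← hy', ← Scheme.Hom.comp_apply, bc_fst_assoc, hιp]
      rfl
    have hsU : s ∈ U.1 := hs ▸ hpr U ⟨_, rfl⟩
    have hsU' : s ∈ U'.1 := hs' ▸ hpr U' ⟨_, rfl⟩
    obtain ⟨W, hWa, hsW, hWle⟩ := TopologicalSpace.Opens.isBasis_iff_nbhd.1 S.isBasis_affineOpens
      (U := U.1 ⊓ U'.1) (show s ∈ U.1 ⊓ U'.1 from ⟨hsU, hsU'⟩)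
    let U₀ : S.affineOpens := ⟨W, hWa⟩
    have h0 : U₀ ≤ U := hWle.trans inf_le_left
    have h0' : U₀ ≤ U' := hWle.trans inf_le_right
    obtain ⟨x, hx⟩ := hrange U₀ ((pullback.fst p g).base ((bc g (ι U) (hιp U)).base y)) hsW
    obtain ⟨w, hw⟩ := exists_bc_eq g (ι U₀) (hιp U₀) _ x hx.symm
    have key : ∀ (U₁ : S.affineOpens) (h : U₀ ≤ U₁) (y₁ : ↥(pullback (pc U₁) g)),
        (bc g (ι U₁) (hιp U₁)).base y₁ = (bc g (ι U₀) (hιp U₀)).base w →
          (y₁ ∈ Vc U₁ ↔ w ∈ Vc U₀) := by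
      intro U₁ h y₁ hy₁
      have h2 : (bc g (ι U₁) (hιp U₁)).base ((bc g (τ U₀ U₁ h) (hτe _ _ _)).base w) =
          (bc g (ι U₀) (hιp U₀)).base w := by
        rw [← Scheme.Hom.comp_apply, ← bc_comp g (τ U₀ U₁ h) (hτe _ _ _) (ι U₁) (hιp U₁)
          (by rw [Category.assoc, hιp, hτe]), bc_congr g (hτι h) _ (hιp U₀)]
      rw [← (bc g (ι U₁) (hιp U₁)).injective (h2.trans hy₁.symm)]
      exact Set.ext_iff.1 (hτV U₀ U₁ h) w
    rw [key U' h0' y' (hy'.trans hw.symm), ← key U h0 y hw.symm]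
    exact hy
  have hbccov : ∀ z : ↥(pullback p g), ∃ U, ∃ y, (bc g (ι U) (hιp U)).base y = z := by
    intro z
    obtain ⟨U, x, hx⟩ := hcov ((pullback.fst p g).base z)
    exact ⟨U, exists_bc_eq g (ι U) (hιp U) z x hx.symm⟩
  have hV : IsClopen V := by
    have h1 : V = ⋃ U, (bc g (ι U) (hιp U)).base '' (Vc U) := by
      ext z
      simp only [Set.mem_iUnion]
      refine ⟨fun hz => ?_, ?_⟩
      · obtain ⟨U, y, hy⟩ := hbccov z
        exact ⟨U, y, hz U y hy, hy⟩
      · rintro ⟨U, y, hy, rfl⟩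
        exact (Set.ext_iff.1 (hVU U) y).2 hy
    have h2 : Vᶜ = ⋃ U, (bc g (ι U) (hιp U)).base '' (Vc U)ᶜ := by
      ext z
      simp only [Set.mem_iUnion]
      refine ⟨fun hz => ?_, ?_⟩
      · obtain ⟨U, y, hy⟩ := hbccov z
        refine ⟨U, y, fun hyV => hz ?_, hy⟩
        rw [← hy]
        exact (Set.ext_iff.1 (hVU U) y).2 hyV
      · rintro ⟨U, y, hy, rfl⟩ hz
        exact hy ((Set.ext_iff.1 (hVU U) y).1 hz)
    refine ⟨isOpen_compl_iff.1 ?_, ?_⟩
    · rw [h2]
      exact isOpen_iUnion fun U => (bc g (ι U) (hιp U)).isOpenEmbedding.isOpenMap _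
        (hVc U).compl.2
    · rw [h1]
      exact isOpen_iUnion fun U => (bc g (ι U) (hιp U)).isOpenEmbedding.isOpenMap _ (hVc U).2
  have hetale : Etale p := by
    let 𝒞 : X.OpenCover :=
      { I₀ := S.affineOpens
        X := fun U => Xc U
        f := fun U => ι U
        mem₀ := by
          rw [Scheme.presieve₀_mem_precoverage_iff]
          exact ⟨fun x => hcov x, fun U => hιo U⟩ }
    refine IsZariskiLocalAtSource.of_openCover 𝒞 fun U => ?_
    show Etale (ι U ≫ p)
    rw [hιp]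
    exact hpe U
  have haff : IsAffineHom p := by
    constructor
    intro W hW
    have h : p ⁻¹ᵁ W = (ι ⟨W, hW⟩).opensRange := by
      ext x
      refine ⟨fun hx => hrange ⟨W, hW⟩ x hx, ?_⟩
      rintro ⟨y, rfl⟩
      show (ι ⟨W, hW⟩ ≫ p).base y ∈ W
      rw [hιp]
      exact hpr _ ⟨y, rfl⟩
    rw [h]
    haveI := hXa ⟨W, hW⟩
    exact isAffineOpen_opensRange (ι ⟨W, hW⟩)
  refine ⟨X, p, V, hV, hetale, haff, fun T t => ?_⟩
  refine rep_of_affine g hV (Set.range fun U : S.affineOpens => U.1) ?_ t ?_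
  · rintro T _ t _ ⟨U, rfl⟩ ht W hW
    obtain ⟨h, ⟨e, he⟩, hu⟩ := hrep U T t ht W hW
    refine ⟨h ≫ ι U, ⟨by rw [Category.assoc, hιp, e], ?_⟩, ?_⟩
    · rw [bc_preimage_comp g h e (ι U) (hιp U), hVU, he]
    · rintro h' ⟨e', he'⟩
      have hfac : Set.range h'.base ⊆ Set.range (ι U).base := by
        rintro _ ⟨x, rfl⟩
        refine hrange U _ ?_
        rw [← Scheme.Hom.comp_apply, e']
        exact ht ⟨x, rfl⟩
      have hl := IsOpenImmersion.lift_fac (ι U) h' hfac
      have el : IsOpenImmersion.lift (ι U) h' hfac ≫ pc U = t := by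
        rw [← hιp, ← Category.assoc, hl, e']
      rw [← hl, hu _ ⟨el, by
        rw [← hVU, ← bc_preimage_comp g _ el (ι U) (hιp U) (by rw [hl, e']),
          bc_congr g hl _ e', he']⟩]
  · intro x
    obtain ⟨W, hW, hxW, -⟩ := TopologicalSpace.Opens.isBasis_iff_nbhd.1 S.isBasis_affineOpens
      (U := ⊤) (TopologicalSpace.Opens.mem_top (t.base x))
    exact ⟨W, ⟨⟨W, hW⟩, rfl⟩, hxW⟩

end Groth.Agent.Hensel.IdemScheme
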