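import Groth.Agent.Hensel.IdemScheme.Basic
import Groth.Agent.Hensel.UnivIdemEtale
import Mathlib.AlgebraicGeometry.Morphisms.Etale
import Mathlib.AlgebraicGeometry.Morphisms.Finite
import Mathlib.AlgebraicGeometry.Morphisms.FinitePresentation
import Mathlib.RingTheory.Flat.EquationalCriterion
import Mathlib.RingTheory.Finiteness.ModuleFinitePresentation

/-!
The scheme of idempotents over an affine open of the base.
-/

set_option autoImplicit false

universe u

open CategoryTheory AlgebraicGeometry Limits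
open scoped TensorProduct

namespace Groth.Agent.Hensel.IdemScheme

variable {S S' : Scheme.{u}} (g : S' ⟶ S)

theorem isClopen_basicOpen {R : Type u} [CommRing R] {e : R} (he : IsIdempotentElem e) :
    IsClopen (PrimeSpectrum.basicOpen e : Set (PrimeSpectrum R)) :=
  PrimeSpectrum.isClopen_iff.2 ⟨e, he, rfl⟩

theorem existsUnique_idem {R : Type u} [CommRing R] {W : Set (PrimeSpectrum R)} (hW : IsClopen W) :
    ∃! e : R, IsIdempotentElem e ∧ W = PrimeSpectrum.basicOpen e :=
  PrimeSpectrum.existsUnique_idempotent_basicOpen_eq_of_isClopen hW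

theorem exists_local_rep [IsFinite g] [Flat g] [LocallyOfFinitePresentation g]
    (U : S.Opens) (hU : IsAffineOpen U) :
    ∃ (X : Scheme.{u}) (p : X ⟶ S) (V : Set ↥(pullback p g)), IsClopen V ∧ IsAffine X ∧ Etale p ∧
      Set.range p.base ⊆ (U : Set S) ∧
      ∀ (T : Scheme.{u}) (t : T ⟶ S), Set.range t.base ⊆ (U : Set S) → Rep g p V t := by
  have hV : IsAffineOpen (g ⁻¹ᵁ U) := hU.preimage g
  let A := Γ(S, U)
  let B := Γ(S', g ⁻¹ᵁ U)
  let φB : A ⟶ B := g.appLE U (g ⁻¹ᵁ U) le_rfl
  letI algB : Algebra A B := φB.hom.toAlgebra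
  haveI : Module.Finite A B := by
    show φB.hom.Finite
    have : φB = g.app U := by simp [φB, Scheme.Hom.app_eq_appLE]
    rw [this]
    exact g.finite_app U hU
  haveI : Module.Flat A B := g.flat_appLE hU hV le_rfl
  haveI : Algebra.FinitePresentation A B := g.finitePresentation_appLE hU hV le_rfl
  haveI : Module.FinitePresentation A B := Module.FinitePresentation.of_finite_of_finitePresentation A B
  haveI : Module.Projective A B := Module.Flat.projective_of_finitePresentation
  obtain ⟨E, hE, hAE, e₀, hEt, he₀, huniv⟩ := exists_etale_univ_idempotent A B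
  letI := hE
  letI := hAE
  have hsq : IsPullback (Spec.map φB) hV.fromSpec hU.fromSpec g := by
    refine IsOpenImmersion.isPullback _ _ _ _ (IsAffineOpen.SpecMap_appLE_fromSpec g hU hV le_rfl).symm ?_
    rw [hU.opensRange_fromSpec, hV.opensRange_fromSpec]
  -- the comparison between base changes and spectra of tensor products
  let p₀ : ∀ (C : Type u) [CommRing C] [Algebra A C], Spec (.of C) ⟶ S :=
    fun C _ _ => Spec.map (CommRingCat.ofHom (algebraMap A C)) ≫ hU.fromSpec
  let ψ : ∀ (C : Type u) [CommRing C] [Algebra A C],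
      Spec (.of (C ⊗[A] B)) ⟶ pullback (p₀ C) g := fun C _ _ =>
    pullback.lift (Spec.map (CommRingCat.ofHom (Algebra.TensorProduct.includeLeftRingHom)))
      (Spec.map (CommRingCat.ofHom
        (Algebra.TensorProduct.includeRight : B →ₐ[A] C ⊗[A] B).toRingHom) ≫ hV.fromSpec)
      (by
        have h1 := (CommRingCat.isPushout_tensorProduct A C B).w
        rw [Category.assoc, ← hsq.w, ← Category.assoc (Spec.map _) (Spec.map φB)]
        show _ ≫ Spec.map (CommRingCat.ofHom (algebraMap A C)) ≫ hU.fromSpec = _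
        rw [← Category.assoc, ← Spec.map_comp, ← Spec.map_comp]
        exact congrArg (fun f => Spec.map f ≫ hU.fromSpec) h1)
  have hψ : ∀ (C : Type u) [CommRing C] [Algebra A C], IsIso (ψ C) := by
    intro C _ _
    have hbig : IsPullback (Spec.map (CommRingCat.ofHom (Algebra.TensorProduct.includeLeftRingHom)))
        (Spec.map (CommRingCat.ofHom
          (Algebra.TensorProduct.includeRight : B →ₐ[A] C ⊗[A] B).toRingHom) ≫ hV.fromSpec)
        (p₀ C) g :=
      (isPullback_SpecMap_of_isPushout _ _ _ _ (CommRingCat.isPushout_tensorProduct A C B)).paste_vert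
        hsq
    have : ψ C = hbig.isoPullback.hom := by
      apply pullback.hom_ext
      · rw [hbig.isoPullback_hom_fst]
        exact pullback.lift_fst _ _ _
      · rw [hbig.isoPullback_hom_snd]
        exact pullback.lift_snd _ _ _
    rw [this]
    infer_instance
  have hnat : ∀ (C D : Type u) [CommRing C] [Algebra A C] [CommRing D] [Algebra A D]
      (φ : C →ₐ[A] D) (e : Spec.map (CommRingCat.ofHom φ.toRingHom) ≫ p₀ C = p₀ D),
      ψ D ≫ bc g (Spec.map (CommRingCat.ofHom φ.toRingHom)) e =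
        Spec.map (CommRingCat.ofHom (Algebra.TensorProduct.map φ (AlgHom.id A B)).toRingHom) ≫ ψ C := by
    intro C D _ _ _ _ φ e
    apply pullback.hom_ext
    · rw [Category.assoc, bc_fst, Category.assoc, pullback.lift_fst, pullback.lift_fst_assoc,
        ← Spec.map_comp, ← Spec.map_comp]
      congr 1
    · rw [Category.assoc, bc_snd, Category.assoc, pullback.lift_snd, pullback.lift_snd,
        ← Category.assoc (Spec.map _) (Spec.map _), ← Spec.map_comp]
      congr 2
      ext b
      simp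
  haveI := hψ E
  let ΨE := Scheme.homeoOfIso (asIso (ψ E))
  let V : Set ↥(pullback (p₀ E) g) :=
    ΨE '' (PrimeSpectrum.basicOpen e₀ : Set (PrimeSpectrum (E ⊗[A] B)))
  have hVc : IsClopen V := ⟨ΨE.isClosedMap _ (isClopen_basicOpen he₀).1,
    ΨE.isOpenMap _ (isClopen_basicOpen he₀).2⟩
  have hVpre : (ψ E).base ⁻¹' V = (PrimeSpectrum.basicOpen e₀ : Set (PrimeSpectrum (E ⊗[A] B))) :=
    ΨE.toEquiv.preimage_image _
  have hcalc : ∀ (D : Type u) [CommRing D] [Algebra A D] (φ : E →ₐ[A] D)
      (e : Spec.map (CommRingCat.ofHom φ.toRingHom) ≫ p₀ E = p₀ D),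
      (ψ D).base ⁻¹' ((bc g (Spec.map (CommRingCat.ofHom φ.toRingHom)) e).base ⁻¹' V) =
        (PrimeSpectrum.basicOpen (Algebra.TensorProduct.map φ (AlgHom.id A B) e₀) :
          Set (PrimeSpectrum (D ⊗[A] B))) := by
    intro D _ _ φ e
    rw [← Set.preimage_comp, ← TopCat.coe_comp, ← Scheme.Hom.comp_base, hnat E D φ e,
      Scheme.Hom.comp_base, TopCat.coe_comp, Set.preimage_comp, hVpre]
    rfl
  haveI : Etale (Spec.map (CommRingCat.ofHom (algebraMap A E))) :=
    (HasRingHomProperty.Spec_iff (P := @Etale)).2 (RingHom.etale_algebraMap.2 hEt)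
  refine ⟨Spec (.of E), p₀ E, V, hVc, inferInstance, inferInstance, ?_, fun T t ht => ?_⟩
  · rintro _ ⟨x, rfl⟩
    rw [← hU.range_fromSpec]
    exact ⟨_, rfl⟩
  refine rep_of_affine g hVc {U} ?_ t fun x => ⟨U, rfl, ht ⟨x, rfl⟩⟩
  intro T _ t U' hU' ht'
  have ht : Set.range t.base ⊆ (U : Set S) := (show U' = U from hU') ▸ ht'
  refine rep_of_iso g T.isoSpec.symm rfl ?_
  suffices hring : ∀ (C : CommRingCat.{u}) (t : Spec C ⟶ S), Set.range t.base ⊆ (U : Set S) →
      Rep g (p₀ E) V t from
    hring _ _ (by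
      rintro _ ⟨x, rfl⟩
      exact ht ⟨_, rfl⟩)
  intro C t ht
  have hfac : Set.range t.base ⊆ Set.range hU.fromSpec.base := by rwa [hU.range_fromSpec]
  obtain ⟨χ, hχ⟩ := Spec.map_surjective (IsOpenImmersion.lift hU.fromSpec t hfac)
  letI : Algebra A C := χ.hom.toAlgebra
  have htC : t = p₀ C := by
    show t = Spec.map χ ≫ hU.fromSpec
    rw [hχ, IsOpenImmersion.lift_fac]
  subst htC
  haveI := hψ C
  let ΨC := Scheme.homeoOfIso (asIso (ψ C))
  intro W hW
  obtain ⟨ε, ⟨hε, hWε⟩, hεu⟩ := existsUnique_idem (hW.preimage (ψ C).continuous)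
  obtain ⟨φ, hφ, hφu⟩ := huniv C ε hε
  have hover : Spec.map (CommRingCat.ofHom φ.toRingHom) ≫ p₀ E = p₀ C := by
    show _ ≫ Spec.map _ ≫ hU.fromSpec = Spec.map _ ≫ hU.fromSpec
    rw [← Category.assoc, ← Spec.map_comp]
    congr 2
    ext a
    simp
  have hinj : ∀ {W₁ W₂ : Set ↥(pullback (p₀ C) g)},
      (ψ C).base ⁻¹' W₁ = (ψ C).base ⁻¹' W₂ → W₁ = W₂ := fun {W₁ W₂} h =>
    Function.Surjective.preimage_injective ΨC.surjective h
  refine ⟨_, ⟨hover, hinj ?_⟩, ?_⟩
  · rw [hcalc C φ hover, hφ]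
    exact hWε.symm
  · rintro h ⟨e, he⟩
    obtain ⟨χ', rfl⟩ := Spec.map_surjective h
    have hcomm : χ'.hom.comp (algebraMap A E) = algebraMap A C := by
      have h1 : Spec.map (CommRingCat.ofHom (algebraMap A E) ≫ χ') =
          Spec.map (CommRingCat.ofHom (algebraMap A C)) := by
        rw [← cancel_mono hU.fromSpec, Spec.map_comp, Category.assoc]
        exact e
      exact congrArg CommRingCat.Hom.hom (Spec.map_injective h1)
    let φ' : E →ₐ[A] C := ⟨χ'.hom, RingHom.congr_fun hcomm⟩
    have he2 := hcalc C φ' e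
    rw [show (bc g (Spec.map (CommRingCat.ofHom φ'.toRingHom)) e).base ⁻¹' V = W from he] at he2
    have := hφu φ' (hεu _ ⟨he₀.map _, he2⟩)
    rw [← this]
    rfl

end Groth.Agent.Hensel.IdemScheme
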